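import Cfsg.Agent.Lib.ThreeTransp.M23Sylow.Transfer

/-!
# Groups of type `M(23)`: the members fixed by an element of prime order
-/

set_option autoImplicit false

namespace CfsgLib.M23Sylow

open CfsgLib.ThreeTransp CfsgLib.M23 CfsgLib.M22Sylow

variable {G : Type*} [Group G] [Finite G] {D : Set G} (S : Setup D)
include S

theorem fixSet_conj {y g e : G} (hg : g ∈ Subgroup.normalizer ((Subgroup.zpowers y : Subgroup G) : Set G))
    (he : e ∈ fixSet D y) : g * e * g⁻¹ ∈ fixSet D y := by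
  refine ⟨S.tt.conj g e he.1, ?_⟩
  obtain ⟨k, hk⟩ : ∃ k : ℤ, y ^ k = g⁻¹ * y * g :=
    ((Subgroup.mem_normalizer_iff''.1 hg) y).1 (Subgroup.mem_zpowers y)
  have h := (he.2.zpow_left k).eq
  rw [hk] at h
  calc y * (g * e * g⁻¹) = g * (g⁻¹ * y * g * e) * g⁻¹ := by group
    _ = g * (e * (g⁻¹ * y * g)) * g⁻¹ := by rw [h]
    _ = g * e * g⁻¹ * y := by group

theorem fixSet_modEq {p : ℕ} (hp : p.Prime) {y : G} (hy : y ^ p = 1) :
    31671 ≡ (fixSet D y).ncard [MOD p] :=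
  ncard_eq S ▸ Loc.fix_modEq hp hy D fun e he => S.tt.conj y e he

theorem pair_modEq {p : ℕ} (hp : p.Prime) {a b y : G} (ha : a ∈ D) (hb : b ∈ link D a)
    (hy : y ^ p = 1) (hay : Commute y a) (hby : Commute y b) :
    693 ≡ {e | e ∈ link D a ∩ link D b ∧ Commute y e}.ncard [MOD p] :=
  link_two_ncard S ha hb ▸ Loc.fix_modEq hp hy _
    fun _ he => ⟨S.link_conj_fix hay he.1, S.link_conj_fix hby he.2⟩

theorem common_modEq {p : ℕ} (hp : p.Prime) {a c y : G} (ha : a ∈ D) (hc : c ∈ D) (hnc : ¬ Commute a c)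
    (hy : y ^ p = 1) (hay : Commute y a) (hcy : Commute y c) :
    351 ≡ {e | e ∈ link D a ∩ link D c ∧ Commute y e}.ncard [MOD p] :=
  common_ncard_eq S ha hc hnc ▸ Loc.fix_modEq hp hy _
    fun _ he => ⟨S.link_conj_fix hay he.1, S.link_conj_fix hcy he.2⟩

theorem three_modEq {p : ℕ} (hp : p.Prime) {a x z y : G} (ha : a ∈ D) (hx : x ∈ link D a) (hz : z ∈ link D a)
    (hxz : ¬ Commute x z) (hy : y ^ p = 1) (hay : Commute y a) (hxy : Commute y x) (hzy : Commute y z) :
    126 ≡ {e | e ∈ link D a ∩ link D x ∩ link D z ∧ Commute y e}.ncard [MOD p] :=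
  link_three_nc_ncard S ha hx hz hxz ▸ Loc.fix_modEq hp hy _
    fun _ he => ⟨⟨S.link_conj_fix hay he.1.1, S.link_conj_fix hxy he.1.2⟩, S.link_conj_fix hzy he.2⟩

/-- A normalising element carrying one fixed member to a commuting one and back. -/
theorem exists_normalizing_swap {p : ℕ} (hp : p.Prime) (hdvd : ¬ p ^ 2 ∣ Nat.card G) {a b y : G}
    (ha : a ∈ D) (hb : b ∈ link D a) (hy : y ^ p = 1) (hy1 : y ≠ 1) (hay : Commute y a) (hby : Commute y b) :
    ∃ g ∈ Subgroup.normalizer ((Subgroup.zpowers y : Subgroup G) : Set G),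
      g * a * g⁻¹ = b ∧ g * b * g⁻¹ = a := by
  obtain ⟨t, hta, htb, -⟩ := exists_swap S ha hb
  haveI := Fact.mk hp
  set M := Subgroup.centralizer ({a, b} : Set G) with hM
  have hmem : ∀ {g : G}, g ∈ M ↔ Commute g a ∧ Commute g b := by
    intro g
    rw [hM, Subgroup.mem_centralizer_iff]
    constructor
    · intro h
      exact ⟨(h a (Set.mem_insert _ _)).symm, (h b (Set.mem_insert_of_mem _ rfl)).symm⟩
    · rintro ⟨h1, h2⟩ z (rfl | rfl)
      exacts [h1.symm.eq, h2.symm.eq]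
  have hord : orderOf y = p := orderOf_eq_prime hy hy1
  set X := Subgroup.zpowers y with hX
  have hcX : Nat.card X = p := by rw [hX, Nat.card_zpowers, hord]
  have h1 : X.map (MulAut.conj t).toMonoidHom ≤ M := by
    rw [hX, MonoidHom.map_zpowers, Subgroup.zpowers_le]
    show t * y * t⁻¹ ∈ M
    refine hmem.2 ⟨?_, ?_⟩
    · rw [← htb]; exact (Commute.conj_iff t).2 hby
    · rw [← hta]; exact (Commute.conj_iff t).2 hay
  have h2 : X ≤ M := Subgroup.zpowers_le.2 (hmem.2 ⟨hay, hby⟩)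
  obtain ⟨h, hh, e⟩ := Loc.conj_of_card hp h1 h2
    (by rw [Subgroup.card_map_of_injective (MulAut.conj t).injective, hcX]) hcX
    (fun hd => hdvd (hd.trans (Subgroup.card_subgroup_dvd_card M)))
  obtain ⟨hha, hhb⟩ := hmem.1 hh
  refine ⟨h * t, Loc.mem_normalizer_of_map ?_, ?_, ?_⟩
  · rw [Subgroup.map_map] at e
    rw [show (MulAut.conj (h * t)).toMonoidHom = (MulAut.conj h).toMonoidHom.comp (MulAut.conj t).toMonoidHom from
      MonoidHom.ext fun x => by simp [mul_assoc]]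
    exact e
  · rw [show h * t * a * (h * t)⁻¹ = h * (t * a * t⁻¹) * h⁻¹ by group, hta, hhb.eq, mul_inv_cancel_right]
  · rw [show h * t * b * (h * t)⁻¹ = h * (t * b * t⁻¹) * h⁻¹ by group, htb, hha.eq, mul_inv_cancel_right]

end CfsgLib.M23Sylow
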