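import Cfsg.Agent.Lib.ThreeTransp.M22Sylow.FiveCards
import Cfsg.Agent.Lib.ThreeTransp.M23Sylow.Fixed
import Cfsg.Agent.Lib.ThreeTransp.SymFix.Star

/-!
# Groups of type `M(23)`: subgroups of order five
-/

set_option autoImplicit false

namespace CfsgLib.M23Sylow

open CfsgLib.ThreeTransp CfsgLib.M23 CfsgLib.M22Sylow
open CfsgLib.ThreeTransp.Factor
open Equiv (swap)

variable {G : Type*} [Group G] [Finite G] {D : Set G} (S : Setup D)
include S

theorem five_elt {d y : G} (hd : d ∈ D) (hy : y ^ 5 = 1) (hy1 : y ≠ 1) (hdy : Commute d y) : Elt D 5 d y :=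
  ⟨by norm_num, by norm_num, hd, hdy, hy, hy1⟩

/-- A fixed member has ten fixed neighbours, each commuting with three of them. -/
theorem five_link23 {d y : G} (hd : d ∈ fixSet D y) (hy : y ^ 5 = 1) (hy1 : y ≠ 1) :
    {e | e ∈ link D d ∧ Commute y e}.ncard = 10 ∧
      ∀ x, x ∈ link D d → Commute y x → {e | e ∈ link D d ∧ Commute y e ∧ e ∈ link D x}.ncard = 3 := by
  have E₀ := five_elt S hd.1 hy hy1 hd.2.symm
  have T := S.link_setup hd.1
  obtain ⟨F, _, _, hF, hM⟩ := T.exists_models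
  obtain ⟨q, hq⟩ := five_has_fixed T hF hM (img_pow S E₀) (img_ne S E₀)
  refine ⟨by rw [ncard_fixed S E₀, five_ten T hF hM hq (img_pow S E₀) (img_ne S E₀)], fun x hx hyx => ?_⟩
  have h3 := (five_nbrs T hF hM (pj_mem hx) (img_pow S E₀) (img_ne S E₀)
    ((commute_img S E₀ hx).1 hyx).symm).1
  rw [← h3, S.card_transfer hd.1 (fun e => Commute y e ∧ e ∈ link D x)
    (fun q => Commute (img S E₀) q ∧ q ∈ link (CfsgLib.M23.E D d) (pj hx))
    fun e he => and_congr (commute_img S E₀ he) (S.pj_link hd.1 hx he).symm]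
  congr 1
  ext q
  exact ⟨fun h => ⟨h.2.2, h.2.1⟩, fun h => ⟨h.1.1, h.2, h.1⟩⟩

/-- The common fixed neighbours of two non-commuting fixed members: six, paired by commuting. -/
theorem five_pair23 {a c y : G} (ha : a ∈ fixSet D y) (hc : c ∈ fixSet D y) (hnc : ¬ Commute a c)
    (hy : y ^ 5 = 1) (hy1 : y ≠ 1) :
    {e | e ∈ link D a ∩ link D c ∧ Commute y e}.ncard = 6 ∧
      ∀ x ∈ {e | e ∈ link D a ∩ link D c ∧ Commute y e},
        {z | z ∈ {e | e ∈ link D a ∩ link D c ∧ Commute y e} ∧ z ≠ x ∧ Commute x z}.ncard = 1 := by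
  set W := {e | e ∈ link D a ∩ link D c ∧ Commute y e} with hW
  have hone : ∀ x ∈ W, {z | z ∈ W ∧ z ≠ x ∧ Commute x z}.ncard = 1 := by
    intro x hx
    obtain ⟨⟨hxa, hxc⟩, hyx⟩ := hx
    have lax := link_swap ha.1 hxa
    have lcx := link_swap hc.1 hxc
    have E₀ := five_elt S hxa.1 hy hy1 hyx.symm
    have T := S.link_setup hxa.1
    obtain ⟨F, _, _, hF, hM⟩ := T.exists_models
    rw [← five_common T hF hM (pj_mem lax) (pj_mem lcx) (fun h => hnc ((S.pj_comm hxa.1 lax lcx).1 h))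
      (img_pow S E₀) (img_ne S E₀) ((commute_img S E₀ lax).1 ha.2).symm ((commute_img S E₀ lcx).1 hc.2).symm]
    have h := S.card_transfer hxa.1 (fun e => e ∈ link D a ∧ e ∈ link D c ∧ Commute y e)
      (fun q => q ∈ link (CfsgLib.M23.E D x) (pj lax) ∧ q ∈ link (CfsgLib.M23.E D x) (pj lcx) ∧
        Commute (img S E₀) q)
      fun e he => and_congr (S.pj_link hxa.1 lax he).symm
        (and_congr (S.pj_link hxa.1 lcx he).symm (commute_img S E₀ he))
    rw [show {z | z ∈ W ∧ z ≠ x ∧ Commute x z} =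
        {e | e ∈ link D x ∧ e ∈ link D a ∧ e ∈ link D c ∧ Commute y e} from Set.ext fun z =>
      ⟨fun ⟨⟨⟨z1, z2⟩, z3⟩, z4, z5⟩ => ⟨⟨z1.1, z4, z5⟩, z1, z2, z3⟩,
        fun ⟨⟨_, z4, z5⟩, z1, z2, z3⟩ => ⟨⟨⟨z1, z2⟩, z3⟩, z4, z5⟩⟩, h]
    congr 1
    ext q
    exact ⟨fun h => ⟨⟨h.2.1, h.2.2.1⟩, h.2.2.2⟩, fun h => ⟨h.1.1.1, h.1.1, h.1.2, h.2⟩⟩
  have h := common_modEq S (by norm_num : (5 : ℕ).Prime) ha.1 hc.1 hnc hy ha.2 hc.2
  rw [← hW] at h
  have hle : W.ncard ≤ 10 := (five_link23 S ha hy hy1).1 ▸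
    Set.ncard_le_ncard (fun e he => ⟨he.1.1, he.2⟩) (Set.toFinite _)
  have hne1 : W.ncard ≠ 1 := by
    intro h1
    obtain ⟨x, hx⟩ := Set.ncard_eq_one.1 h1
    obtain ⟨z, hz⟩ := Set.ncard_eq_one.1 (hone x (by rw [hx]; rfl))
    have hzm : z ∈ {z | z ∈ W ∧ z ≠ x ∧ Commute x z} := by rw [hz]; rfl
    exact hzm.2.1 (by have := hzm.1; rw [hx] at this; exact this)
  unfold Nat.ModEq at h
  exact ⟨by omega, hone⟩

/-- Twenty-one members are fixed. -/
theorem five_count23 {d y : G} (hd : d ∈ fixSet D y) (hy : y ^ 5 = 1) (hy1 : y ≠ 1) :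
    (fixSet D y).ncard = 21 := by
  set T := {e | e ∈ link D d ∧ Commute y e} with hT
  set U := {e | e ∈ fixSet D y ∧ ¬ Commute d e} with hU
  obtain ⟨h10, h3⟩ := five_link23 S hd hy hy1
  have hcnt := M22.count_pairs (s := U) (t := T) (fun e x => x ∈ link D e) (m := 6) (n := 6) (fun e he => by
    rw [← (five_pair23 S hd he.1 he.2 hy hy1).1]
    congr 1
    ext x
    exact ⟨fun h => ⟨⟨h.1.1, h.2⟩, h.1.2⟩, fun h => ⟨⟨h.1.1, h.2⟩, h.1.2⟩⟩) (fun x hx => by
    obtain ⟨hx10, -⟩ := five_link23 S (show x ∈ fixSet D y from ⟨hx.1.1, hx.2⟩) hy hy1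
    have h3x := h3 x hx.1 hx.2
    set B := {e | e ∈ link D d ∧ Commute y e ∧ e ∈ link D x} with hB
    have hdB : d ∉ B := fun h : d ∈ B => h.1.2.1 rfl
    have hsub : insert d B ⊆ {e | e ∈ link D x ∧ Commute y e} := by
      rintro e (rfl | he)
      exacts [⟨link_swap hd.1 hx.1, hd.2⟩, ⟨he.2.2, he.2.1⟩]
    rw [show {e | e ∈ U ∧ x ∈ link D e} = {e | e ∈ link D x ∧ Commute y e} \ insert d B from ?_,
      Set.ncard_diff hsub (Set.toFinite _), hx10, Set.ncard_insert_of_notMem hdB, h3x]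
    ext e
    constructor
    · rintro ⟨⟨he, hde⟩, hxe⟩
      refine ⟨⟨link_swap he.1 hxe, he.2⟩, fun h => ?_⟩
      rcases h with rfl | h
      · exact hde (Commute.refl _)
      · exact hde h.1.2.2
    · rintro ⟨⟨hex, hye⟩, hed⟩
      refine ⟨⟨⟨hex.1, hye⟩, fun hc => hed ?_⟩, link_swap hx.1.1 hex⟩
      by_cases h : e = d
      · exact Or.inl h
      · exact Or.inr ⟨⟨hex.1, h, hc⟩, hye, hex⟩)
  rw [h10] at hcnt
  have hun : fixSet D y = insert d T ∪ U := by
    ext e
    constructor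
    · intro he
      by_cases hc : Commute d e
      · by_cases hed : e = d
        · exact Or.inl (Or.inl hed)
        · exact Or.inl (Or.inr ⟨⟨he.1, hed, hc⟩, he.2⟩)
      · exact Or.inr ⟨he, hc⟩
    · rintro ((rfl | h) | h)
      exacts [hd, ⟨h.1.1, h.2⟩, h.1]
  have hdis : Disjoint (insert d T) U := by
    rw [Set.disjoint_left]
    rintro e (rfl | h) ⟨-, hc⟩
    · exact hc (Commute.refl _)
    · exact hc h.1.2.2
  rw [hun, Set.ncard_union_eq hdis, Set.ncard_insert_of_notMem (fun h : d ∈ T => h.1.2.1 rfl), h10]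
  omega

omit S [Finite G] in
theorem commute_of_closure {y g : G} (hg : g ∈ Subgroup.closure (fixSet D y)) : Commute y g := by
  induction hg using Subgroup.closure_induction with
  | mem u hu => exact hu.2
  | one => exact Commute.one_right y
  | mul u v _ _ h1 h2 => exact h1.mul_right h2
  | inv u _ h1 => exact h1.inv_right

/-- The fixed neighbours of a fixed member are the transpositions of a symmetric group of degree five. -/
theorem five_link_symm {d y : G} (hd : d ∈ fixSet D y) (hy : y ^ 5 = 1) (hy1 : y ≠ 1) :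
    ∃ ψ : Equiv.Perm (Fin 5) →* G, Function.Injective ψ ∧
      {e | e ∈ link D d ∧ Commute y e} = ψ '' SymFix.swaps 5 := by
  have E₀ := five_elt S hd.1 hy hy1 hd.2.symm
  have T := S.link_setup hd.1
  obtain ⟨F, _, _, hF, hM⟩ := T.exists_models
  obtain ⟨q, hq⟩ := five_has_fixed T hF hM (img_pow S E₀) (img_ne S E₀)
  obtain ⟨φ, hφ, hfix, -⟩ := five_symm T hF hM hq (img_pow S E₀) (img_ne S E₀)
  have hsurj : ∀ i : Fin 4, ∃ (e : G) (he : e ∈ link D d), pj he = φ (swap i.castSucc i.succ) := fun i => by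
    have hm : φ (swap i.castSucc i.succ) ∈ fixSet (CfsgLib.M23.E D d) (img S E₀) :=
      hfix ▸ ⟨_, ⟨_, _, Fin.castSucc_lt_succ.ne, rfl⟩, rfl⟩
    exact Setup.pj_surj hm.1
  choose f hf hfe using hsurj
  have hfy : ∀ i, Commute y (f i) := fun i => (commute_img S E₀ (hf i)).2 (by
    have hm : φ (swap i.castSucc i.succ) ∈ fixSet (CfsgLib.M23.E D d) (img S E₀) :=
      hfix ▸ ⟨_, ⟨_, _, Fin.castSucc_lt_succ.ne, rfl⟩, rfl⟩
    rw [hfe]; exact hm.2)
  have hiff : ∀ i j, Commute (f i) (f j) ↔ Commute (swap i.castSucc i.succ) (swap j.castSucc j.succ) :=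
    fun i j => by rw [← S.pj_comm hd.1 (hf i) (hf j), hfe, hfe, SymFix.commute_map_iff hφ]
  obtain ⟨ψ, hψ⟩ := SymFix.exists_hom f (fun i => S.sqd (hf i).1) (fun i j hij => by
    refine S.tt.braid (hf i).1 (hf j).1 fun h => ?_
    have h' := (hiff i j).1 h
    rw [show i.succ = j.castSucc from Fin.ext (by simp [hij])] at h'
    exact SymFix.swap_not_commute (by simp [Fin.ext_iff]; omega) (by simp [Fin.ext_iff])
      (by simp [Fin.ext_iff]; omega) h') (fun i j hij =>
    (hiff i j).2 (SymFix.swap_commute (by simp [Fin.ext_iff]; omega) (by simp [Fin.ext_iff]; omega)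
      (by simp [Fin.ext_iff]; omega) (by simp [Fin.ext_iff]; omega)))
  have hinj : Function.Injective ψ := by
    refine SymFix.injective_of_ne (by norm_num) ψ (i := (0 : Fin 4).castSucc) (j := (0 : Fin 4).succ)
      (k := (2 : Fin 4).castSucc) (l := (2 : Fin 4).succ) (by decide) (by decide) fun e => ?_
    rw [hψ, hψ] at e
    have e' := congrArg (fun z => z) (hfe 0)
    have h2 : φ (swap (0 : Fin 4).castSucc (0 : Fin 4).succ) = φ (swap (2 : Fin 4).castSucc (2 : Fin 4).succ) := by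
      rw [← hfe 0, ← hfe 2]
      exact congrArg (fun z : ↥(linkSub D d) => ((z : ↥(linkSub D d)) : Q D d)) (Subtype.ext e)
    exact absurd (hφ h2) (by decide)
  refine ⟨ψ, hinj, (Set.eq_of_subset_of_ncard_le ?_ ?_ (Set.toFinite _)).symm⟩
  · rintro _ ⟨σ, ⟨i, j, hij, rfl⟩, rfl⟩
    obtain ⟨g, hg⟩ := isConj_iff.1 (Equiv.Perm.isConj_swap ((Fin.castSucc_lt_succ (i := (0 : Fin 4))).ne) hij)
    rw [← hg, map_mul, map_mul, map_inv, hψ]
    have hgd : Commute (ψ g) d := (SymFix.commute_of_generators (φ := ψ) (g := d) (fun i => by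
      rw [hψ]; exact (hf i).2.2) g).symm
    have hgy : Commute y (ψ g) := SymFix.commute_of_generators (φ := ψ) (g := y) (fun i => by
      rw [hψ]; exact hfy i) g
    exact ⟨S.link_conj_fix hgd (hf 0), (hgy.mul_right (hfy 0)).mul_right hgy.inv_right⟩
  · rw [(five_link23 S hd hy hy1).1, Set.ncard_image_of_injective _ hinj, SymFix.ncard_swaps]
    decide

/-- The fixed members are the transpositions of a symmetric group of degree seven. -/
theorem five_symm23 {d y : G} (hd : d ∈ fixSet D y) (hy : y ^ 5 = 1) (hy1 : y ≠ 1) :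
    ∃ φ : Equiv.Perm (Fin 7) →* G, Function.Injective φ ∧ fixSet D y = φ '' SymFix.swaps 7 := by
  obtain ⟨ψ, hψ, himg⟩ := five_link_symm S hd hy hy1
  obtain ⟨h10, -⟩ := five_link23 S hd hy hy1
  have h21 := five_count23 S hd hy hy1
  obtain ⟨c, hc, hdc⟩ : ∃ c, c ∈ fixSet D y ∧ ¬ Commute d c := by
    by_contra! hall
    have hsub : fixSet D y ⊆ insert d {e | e ∈ link D d ∧ Commute y e} := fun e he => by
      by_cases hed : e = d
      · exact Or.inl hed
      · exact Or.inr ⟨⟨he.1, hed, hall e he⟩, he.2⟩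
    have := (Set.ncard_le_ncard hsub (Set.toFinite _)).trans (Set.ncard_insert_le _ _)
    rw [h21, h10] at this
    omega
  obtain ⟨h6, h1⟩ := five_pair23 S hd hc hdc hy hy1
  obtain ⟨i, hi⟩ := SymFix.star_five hψ Function.injective_id (W := {e | e ∈ link D d ∩ link D c ∧ Commute y e})
    (fun x hx => by
      have hxT : x ∈ {e | e ∈ link D d ∧ Commute y e} := ⟨hx.1.1, hx.2⟩
      rw [himg] at hxT
      obtain ⟨σ, ⟨r, s, hrs, rfl⟩, e⟩ := hxT
      exact ⟨r, s, hrs, e⟩) h6 h1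
  have hmem : ∀ r s : Fin 5, r ≠ s → ψ (swap r s) ∈ link D d ∧ Commute y (ψ (swap r s)) := fun r s hrs => by
    have : ψ (swap r s) ∈ {e | e ∈ link D d ∧ Commute y e} := himg ▸ ⟨_, SymFix.swap_mem hrs, rfl⟩
    exact this
  refine SymFix.extend S.tt (by norm_num : 3 ≤ 5) (fun e he => he.1)
    (fun g hg e he => M22Sylow.Loc.mem_centralizer_zpowers.2 (commute_of_closure hg) |> fun h =>
      fixSet_conj S (Subgroup.centralizer_le_normalizer _ h) he)
    ψ (fun r s hrs => ⟨(hmem r s hrs).1.1, (hmem r s hrs).2⟩) hd hc hdc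
    (fun r s hrs => (hmem r s hrs).1.2.2) (fun r s hrs => (hmem r s hrs).1.2.1.symm) i
    (fun r s hrs => ?_) (by rw [h21, SymFix.ncard_swaps]; decide)
  rw [← hi r s hrs]
  constructor
  · intro h
    exact ⟨⟨(hmem r s hrs).1, (hmem r s hrs).1.1, fun e => hdc (e ▸ (hmem r s hrs).1.2.2), h⟩, (hmem r s hrs).2⟩
  · intro h
    exact h.1.2.2.2

theorem five_exists23 {y : G} (hy : y ^ 5 = 1) : ∃ d, d ∈ fixSet D y := by
  have h := fixSet_modEq S (by norm_num : (5 : ℕ).Prime) hy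
  refine Set.nonempty_of_ncard_ne_zero fun e => ?_
  rw [e] at h
  norm_num [Nat.ModEq] at h

/-- The orders of the centraliser and normaliser. -/
theorem five_cards23 {y : G} (hy : y ^ 5 = 1) (hy1 : y ≠ 1) :
    Nat.card ↥(Subgroup.centralizer ({y} : Set G)) = 25200 ∧
      Nat.card ↥(Subgroup.normalizer ((Subgroup.zpowers y : Subgroup G) : Set G)) = 100800 := by
  obtain ⟨d, hd⟩ := five_exists23 S hy
  obtain ⟨φ, hφ, hT⟩ := five_symm23 S hd hy hy1
  have E₀ := five_elt S hd.1 hy hy1 hd.2.symm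
  have T := S.link_setup hd.1
  obtain ⟨F, _, _, hF, hM⟩ := T.exists_models
  obtain ⟨hC, hN⟩ := five_cards T hF hM (img_pow S E₀) (img_ne S E₀)
  have h21 := five_count23 S hd hy hy1
  have htr : ∀ f ∈ fixSet D y, ∃ g ∈ Subgroup.centralizer ({y} : Set G), g * d * g⁻¹ = f := fun f hf => by
    obtain ⟨g, hg, e⟩ := SymFix.exists_conj hφ hT hd hf
    exact ⟨g, Subgroup.mem_centralizer_singleton_iff.2 (commute_of_closure hg).symm.eq, e⟩
  have hCN : Subgroup.centralizer ({y} : Set G) ≤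
      Subgroup.normalizer ((Subgroup.zpowers y : Subgroup G) : Set G) := by
    rw [← centralizer_zpowers]
    exact Subgroup.centralizer_le_normalizer _
  constructor
  · rw [Loc.card_eq_mul _ d (fixSet D y) (fun g hg => fixSet_conj S (hCN hg) hd) htr, h21, inf_comm,
      ← pre_centralizer S E₀, card_pre S hd.1, hC]
  · rw [Loc.card_eq_mul _ d (fixSet D y) (fun g hg => fixSet_conj S hg hd)
      (fun f hf => let ⟨g, hg, e⟩ := htr f hf; ⟨g, hCN hg, e⟩), h21,
      ← pre_normalizer S E₀, card_pre S hd.1, hN]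

/-- The normaliser of a subgroup of order five. -/
theorem five_normalizer23 {X : Subgroup G} (hX : Nat.card X = 5) :
    ∃ F' : Subgroup G, Nat.card ↥F' = 20 ∧ X ≤ F' ∧ F' ⊓ Subgroup.centralizer ((X : Subgroup G) : Set G) = X ∧
      F' ⊓ Subgroup.closure (D ∩ (Subgroup.centralizer ((X : Subgroup G) : Set G) : Set G)) = ⊥ ∧
      (∀ x ∈ F', ∀ y ∈ Subgroup.closure (D ∩ (Subgroup.centralizer ((X : Subgroup G) : Set G) : Set G)),
        x * y = y * x) ∧
      F' ⊔ Subgroup.closure (D ∩ (Subgroup.centralizer ((X : Subgroup G) : Set G) : Set G)) =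
        Subgroup.normalizer ((X : Subgroup G) : Set G) ∧
      Nonempty (↥(Subgroup.closure (D ∩ (Subgroup.centralizer ((X : Subgroup G) : Set G) : Set G))) ≃*
        Equiv.Perm (Fin 7)) := by
  obtain ⟨y, rfl, hy, hy1⟩ := Loc.exists_gen (by norm_num : (5 : ℕ).Prime) hX
  obtain ⟨d, hd⟩ := five_exists23 S hy
  obtain ⟨φ, hφ, hT⟩ := five_symm23 S hd hy hy1
  obtain ⟨hC, hN⟩ := five_cards23 S hy hy1
  rw [← centralizer_zpowers] at hC
  rw [inter_centralizer]
  set X := Subgroup.zpowers y with hXdef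
  set T := fixSet D y with hTdef
  set N := Subgroup.normalizer (X : Set G) with hNdef
  set C := Subgroup.centralizer (X : Set G) with hCdef
  have hCN : C ≤ N := Subgroup.centralizer_le_normalizer _
  have hHC : Subgroup.closure T ≤ C := (Subgroup.closure_le C).2 fun u hu => Loc.mem_centralizer_zpowers.2 hu.2
  have h42 : (SymFix.swaps 7).ncard * 2 = 7 * (7 - 1) := by rw [SymFix.ncard_swaps]; decide
  obtain ⟨hN', hsup⟩ := SymFix.card_eq_factorial_mul hφ hT (by norm_num) h42 N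
    (fun g hg e he => fixSet_conj S hg he) (hHC.trans hCN)
  obtain ⟨hC', -⟩ := SymFix.card_eq_factorial_mul hφ hT (by norm_num) h42 C
    (fun g hg e he => fixSet_conj S (hCN hg) he) hHC
  rw [show Nat.factorial 7 = 5040 from rfl] at hN' hC'
  have hXC : X ≤ C := Subgroup.zpowers_le.2 (Loc.mem_centralizer_zpowers.2 (Commute.refl y))
  have hXT : X ≤ Subgroup.centralizer T :=
    Subgroup.zpowers_le.2 (Subgroup.mem_centralizer_iff.2 fun e he => he.2.symm.eq)
  have hK : C ⊓ Subgroup.centralizer T = X :=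
    (Subgroup.eq_of_le_of_card_ge (le_inf hXC hXT) (by rw [hX]; omega)).symm
  refine ⟨N ⊓ Subgroup.centralizer T, by omega, le_inf (hXC.trans hCN) hXT, ?_, ?_,
    fun x hx z hz => SymFix.centralizer_commute (Subgroup.mem_inf.1 hx).2 hz, hsup, SymFix.closure_iso hφ hT⟩
  · rw [inf_right_comm, inf_eq_right.2 hCN, hK]
  · rw [inf_assoc, SymFix.disjoint_centralizer hφ hT (by norm_num), inf_bot_eq]

/-- Conjugacy through the link quotient. -/
theorem conj_of_img {p : ℕ} {b x z : G} (Ex : Elt D p b x) (Ez : Elt D p b z) (q : Q D b)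
    (hq : (Subgroup.zpowers (img S Ex)).map (MulAut.conj q).toMonoidHom = Subgroup.zpowers (img S Ez)) :
    ∃ g : G, (Subgroup.zpowers x).map (MulAut.conj g).toMonoidHom = Subgroup.zpowers z := by
  obtain ⟨⟨g, hg⟩, rfl⟩ := QuotientGroup.mk'_surjective (Subgroup.center ↥(linkSub D b)) q
  haveI := Fact.mk Ex.prime
  have hgx : g * x * g⁻¹ ∈ linkSub D b := mul_mem (mul_mem hg (Ex.mem_sub S)) (inv_mem hg)
  have h1 : (Subgroup.zpowers x).map (MulAut.conj g).toMonoidHom ≤ pre D b (Subgroup.zpowers (img S Ez)) := by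
    rw [MonoidHom.map_zpowers, Subgroup.zpowers_le]
    refine mem_pre.2 ⟨hgx, hq ▸ ⟨img S Ex, Subgroup.mem_zpowers _, ?_⟩⟩
    rfl
  have h2 : Subgroup.zpowers z ≤ pre D b (Subgroup.zpowers (img S Ez)) :=
    Subgroup.zpowers_le.2 (mem_pre.2 ⟨Ez.mem_sub S, Subgroup.mem_zpowers (img S Ez)⟩)
  obtain ⟨h, -, e⟩ := Loc.conj_of_card Ex.prime h1 h2
    (by rw [Subgroup.card_map_of_injective (MulAut.conj g).injective, Nat.card_zpowers,
      orderOf_eq_prime Ex.pow Ex.ne])
    (by rw [Nat.card_zpowers, orderOf_eq_prime Ez.pow Ez.ne]) (by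
      rw [card_pre S Ex.mem, card_zpowers_img S Ez, pow_two]
      intro hdvd
      have h2 := Nat.le_of_dvd (by have := Ex.prime.pos; omega) hdvd
      have h3 : p ≠ 2 := Ex.odd
      have := Ex.prime.two_le
      have : 3 ≤ p := by omega
      nlinarith)
  rw [Subgroup.map_map] at e
  exact ⟨h * g, by rw [map_mul]; exact e⟩

/-- Subgroups of order five are conjugate. -/
theorem five_conj23 {X Y : Subgroup G} (hX : Nat.card X = 5) (hY : Nat.card Y = 5) :
    ∃ g : G, X.map (MulAut.conj g).toMonoidHom = Y := by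
  have hpr : (5 : ℕ).Prime := by norm_num
  obtain ⟨x, rfl, hx, hx1⟩ := Loc.exists_gen hpr hX
  obtain ⟨z, rfl, hz, hz1⟩ := Loc.exists_gen hpr hY
  obtain ⟨a, ha, hxa⟩ := five_exists23 S hx
  obtain ⟨b, hb, hzb⟩ := five_exists23 S hz
  obtain ⟨h, hh⟩ := S.cls ha hb
  have Ez := five_elt S hb hz hz1 hzb.symm
  have Ex : Elt D 5 b (h * x * h⁻¹) := five_elt S hb (by rw [conj_pow, hx, mul_one, mul_inv_cancel])
    (fun e => hx1 (by simpa [mul_assoc] using congrArg (fun w => h⁻¹ * w * h) e))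
    (hh ▸ (Commute.conj_iff h).2 hxa.symm)
  have T := S.link_setup hb
  obtain ⟨F, _, _, hF, hM⟩ := T.exists_models
  obtain ⟨q, hq⟩ := five_conj T hF hM (card_zpowers_img S Ex) (card_zpowers_img S Ez)
  obtain ⟨g, hg⟩ := conj_of_img S Ex Ez q hq
  refine ⟨g * h, ?_⟩
  rw [← hg, map_mul, MonoidHom.map_zpowers, MonoidHom.map_zpowers]
  rfl

end CfsgLib.M23Sylow
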