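import Cfsg.Agent.Lib.ThreeTransp.M23Sylow.Fixed

/-!
# Groups of type `M(23)`: normaliser orders from the link quotient
-/

set_option autoImplicit false

namespace CfsgLib.M23Sylow

open CfsgLib.ThreeTransp CfsgLib.M23 CfsgLib.M22Sylow
open scoped Pointwise

/-- The orders of the normaliser and the centraliser from a commuting decomposition. -/
theorem card_of_decomp {A : Type*} [Group A] [Finite A] {y : A} {F' H : Subgroup A}
    (hFC : F' ⊓ Subgroup.centralizer ((Subgroup.zpowers y : Subgroup A) : Set A) = Subgroup.zpowers y)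
    (hbot : F' ⊓ H = ⊥) (hcomm : ∀ x ∈ F', ∀ z ∈ H, x * z = z * x)
    (hHC : H ≤ Subgroup.centralizer ((Subgroup.zpowers y : Subgroup A) : Set A))
    (hsup : F' ⊔ H = Subgroup.normalizer ((Subgroup.zpowers y : Subgroup A) : Set A)) :
    Nat.card ↥(Subgroup.normalizer ((Subgroup.zpowers y : Subgroup A) : Set A)) = Nat.card F' * Nat.card H ∧
      Nat.card ↥(Subgroup.centralizer ({y} : Set A)) ≤ Nat.card (Subgroup.zpowers y) * Nat.card H := by
  have hnorm : ∀ B : Subgroup A, B ≤ F' → H ≤ Subgroup.normalizer (B : Set A) := by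
    intro B hB z hz
    refine Subgroup.mem_normalizer_iff.2 fun x => ?_
    constructor
    · intro hx; rwa [← hcomm x (hB hx) z hz, mul_inv_cancel_right]
    · intro hx
      have h := hcomm _ (hB hx) z hz
      have h' : x * z = z * x := by
        have := congrArg (fun w => z⁻¹ * w * z) h
        simpa [mul_assoc] using this
      rwa [← h', mul_inv_cancel_right] at hx
  refine ⟨?_, ?_⟩
  · rw [← hsup]
    exact le_antisymm (Loc.card_sup_le (hnorm F' le_rfl)) (Loc.card_mul_le_sup hbot)
  · rw [← centralizer_zpowers]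
    set C := Subgroup.centralizer ((Subgroup.zpowers y : Subgroup A) : Set A) with hC
    have hle : C ≤ Subgroup.zpowers y ⊔ H := by
      intro g hg
      have hgN : g ∈ (F' : Set A) * (H : Set A) := by
        rw [← Subgroup.coe_mul_of_right_le_normalizer_left F' H (hnorm F' le_rfl), hsup]
        exact Subgroup.centralizer_le_normalizer _ hg
      obtain ⟨f, hf, h, hh, rfl⟩ := hgN
      refine mul_mem (Subgroup.mem_sup_left ?_) (Subgroup.mem_sup_right hh)
      rw [← hFC]
      refine Subgroup.mem_inf.2 ⟨hf, ?_⟩
      have := mul_mem hg (inv_mem (hHC hh))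
      rwa [mul_inv_cancel_right] at this
    refine (Nat.le_of_dvd Nat.card_pos (Subgroup.card_dvd_of_le hle)).trans (Loc.card_sup_le (hnorm _ ?_))
    rw [← hFC]
    exact inf_le_left

variable {G : Type*} [Group G] [Finite G] {D : Set G} (S : Setup D)
include S

theorem card_normalizer_fix {p : ℕ} {a y : G} (E : Elt D p a y) :
    Nat.card ↥(Subgroup.normalizer ((Subgroup.zpowers y : Subgroup G) : Set G) ⊓
        Subgroup.centralizer ({a} : Set G)) =
      2 * Nat.card ↥(Subgroup.normalizer ((Subgroup.zpowers (img S E) : Subgroup (Q D a)) : Set (Q D a))) := by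
  rw [← pre_normalizer S E, card_pre S E.mem]

theorem card_centralizer_fix {p : ℕ} {a y : G} (E : Elt D p a y) :
    Nat.card ↥(Subgroup.centralizer ((Subgroup.zpowers y : Subgroup G) : Set G) ⊓
        Subgroup.centralizer ({a} : Set G)) =
      2 * Nat.card ↥(Subgroup.centralizer ({img S E} : Set (Q D a))) := by
  rw [centralizer_zpowers, inf_comm, ← pre_centralizer S E, card_pre S E.mem]

end CfsgLib.M23Sylow
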