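import Cfsg.Agent.Lib.ThreeTransp.M22Sylow.Local

/-!
# Sets of transpositions of a symmetric group inside a finite group
-/

set_option autoImplicit false

namespace CfsgLib.M23Sylow

open Equiv (swap)
open CfsgLib.M22Sylow

/-- Nothing but the identity commutes with all adjacent transpositions. -/
theorem perm_central {n : ℕ} (hn : 3 ≤ n) {σ : Equiv.Perm (Fin n)}
    (h : ∀ τ : Equiv.Perm (Fin n), τ.IsSwap → σ * τ = τ * σ) : σ = 1 := by
  ext i : 1
  rw [Equiv.Perm.one_apply]
  by_contra hi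
  obtain ⟨j, hj⟩ : ∃ j : Fin n, j ≠ i ∧ j ≠ σ i := by
    obtain ⟨j, -, hj⟩ := Finset.exists_mem_notMem_of_card_lt_card
      (s := ({i, σ i} : Finset (Fin n))) (t := Finset.univ)
      (Finset.card_le_two.trans_lt (by rw [Finset.card_univ, Fintype.card_fin]; omega))
    exact ⟨j, fun e => hj (by simp [e]), fun e => hj (by simp [e])⟩
  have h1 := congrArg (fun f : Equiv.Perm (Fin n) => f i) (h (swap i j) ⟨i, j, hj.1.symm, rfl⟩)
  simp only [Equiv.Perm.mul_apply, Equiv.swap_apply_left,
    Equiv.swap_apply_of_ne_of_ne hi hj.2.symm] at h1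
  exact hj.1 (σ.injective h1)

variable {G : Type*} [Group G] {n : ℕ}

/-- A set carried isomorphically by a homomorphism onto the transpositions. -/
structure SymModel (n : ℕ) (T : Set G) (φ : Equiv.Perm (Fin n) →* G) : Prop where
  three : 3 ≤ n
  inj : Function.Injective φ
  eq : T = φ '' {σ | σ.IsSwap}

variable {T : Set G} {φ : Equiv.Perm (Fin n) →* G} (M : SymModel n T φ)
include M

theorem SymModel.swap_mem {i j : Fin n} (h : i ≠ j) : φ (swap i j) ∈ T :=
  M.eq ▸ ⟨_, ⟨i, j, h, rfl⟩, rfl⟩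

theorem SymModel.closure_eq : Subgroup.closure T = φ.range := by
  rw [M.eq, ← MonoidHom.map_closure, Equiv.Perm.closure_isSwap, ← MonoidHom.range_eq_map]

theorem SymModel.card_closure : Nat.card (Subgroup.closure T) = n.factorial := by
  rw [M.closure_eq, ← Nat.card_congr (MonoidHom.ofInjective M.inj).toEquiv, Nat.card_perm, Nat.card_fin]

theorem SymModel.iso : Nonempty (↥(Subgroup.closure T) ≃* Equiv.Perm (Fin n)) :=
  ⟨(MulEquiv.subgroupCongr M.closure_eq).trans (MonoidHom.ofInjective M.inj).symm⟩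

omit M in
theorem commute_closure {S : Set G} {x z : G} (hx : x ∈ Subgroup.centralizer S)
    (hz : z ∈ Subgroup.closure S) : x * z = z * x := by
  rw [← Subgroup.centralizer_closure] at hx
  exact (Subgroup.mem_centralizer_iff.1 hx z hz).symm

theorem SymModel.disjoint : Subgroup.centralizer T ⊓ Subgroup.closure T = ⊥ :=
  (Subgroup.eq_bot_iff_forall _).2 fun z hz => by
    obtain ⟨hz1, hz2⟩ := Subgroup.mem_inf.1 hz
    obtain ⟨σ, rfl⟩ := (M.closure_eq ▸ hz2 : z ∈ φ.range)
    rw [perm_central M.three (σ := σ) fun τ hτ => M.inj ?_, map_one]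
    rw [map_mul, map_mul]
    exact commute_closure hz1 (Subgroup.subset_closure (M.eq ▸ ⟨τ, hτ, rfl⟩))

theorem SymModel.transitive {u v : G} (hu : u ∈ T) (hv : v ∈ T) :
    ∃ g ∈ Subgroup.closure T, g * u * g⁻¹ = v := by
  rw [M.eq] at hu hv
  obtain ⟨_, ⟨i, j, hij, rfl⟩, rfl⟩ := hu
  obtain ⟨_, ⟨k, l, hkl, rfl⟩, rfl⟩ := hv
  obtain ⟨c, hc⟩ := isConj_iff.1 (Equiv.Perm.isConj_swap hij hkl)
  exact ⟨φ c, M.closure_eq ▸ ⟨c, rfl⟩, by rw [← map_inv, ← map_mul, ← map_mul, hc]⟩

/-- An element commuting with the adjacent transpositions commutes with all of `T`. -/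
theorem SymModel.mem_centralizer {m : ℕ} (hm : n = m + 1) {g : G}
    (h : ∀ i : Fin m, Commute g (φ (swap (Fin.cast hm.symm i.castSucc) (Fin.cast hm.symm i.succ)))) :
    g ∈ Subgroup.centralizer T := by
  subst hm
  have hgen : ∀ σ : Equiv.Perm (Fin (m + 1)), Commute g (φ σ) := by
    intro σ
    have hσ : σ ∈ Submonoid.closure (Set.range fun i : Fin m ↦ swap i.castSucc i.succ) := by
      rw [Equiv.Perm.mclosure_swap_castSucc_succ]; trivial
    induction hσ using Submonoid.closure_induction with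
    | mem s hs =>
      obtain ⟨i, rfl⟩ := hs
      exact h i
    | one => rw [map_one]; exact Commute.one_right g
    | mul u v _ _ h1 h2 => rw [map_mul]; exact h1.mul_right h2
  refine Subgroup.mem_centralizer_iff.2 fun z hz => ?_
  rw [M.eq] at hz
  obtain ⟨σ, -, rfl⟩ := hz
  exact (hgen σ).symm.eq

/-- The normaliser of a subgroup centralising `T`, when it acts on `T` by the symmetric group. -/
theorem SymModel.local_structure [Finite G] {X : Subgroup G} {f p : ℕ}
    (hconj : ∀ g ∈ Subgroup.normalizer (X : Set G), ∀ t ∈ T, g * t * g⁻¹ ∈ T)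
    (hle : T ⊆ (Subgroup.centralizer (X : Set G) : Set G)) (hp : Nat.card X = p)
    (hXT : X ≤ Subgroup.centralizer T) (hXC : X ≤ Subgroup.centralizer (X : Set G))
    (hbound : Nat.card ↥(Subgroup.normalizer (X : Set G)) ≤
      n.factorial * Nat.card ↥(Subgroup.normalizer (X : Set G) ⊓ Subgroup.centralizer T))
    (hN : Nat.card ↥(Subgroup.normalizer (X : Set G)) = n.factorial * f)
    (hC : Nat.card ↥(Subgroup.centralizer (X : Set G)) ≤ n.factorial * p) :
    ∃ F : Subgroup G, Nat.card ↥F = f ∧ X ≤ F ∧ F ⊓ Subgroup.centralizer (X : Set G) = X ∧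
      F ⊓ Subgroup.closure T = ⊥ ∧ (∀ x ∈ F, ∀ z ∈ Subgroup.closure T, x * z = z * x) ∧
      F ⊔ Subgroup.closure T = Subgroup.normalizer (X : Set G) ∧
      Nonempty (↥(Subgroup.closure T) ≃* Equiv.Perm (Fin n)) := by
  set N := Subgroup.normalizer (X : Set G) with hNdef
  set C := Subgroup.centralizer (X : Set G) with hCdef
  set H := Subgroup.closure T with hH
  have hCN : C ≤ N := Subgroup.centralizer_le_normalizer _
  have hHC : H ≤ C := (Subgroup.closure_le C).2 hle
  set F := N ⊓ Subgroup.centralizer T with hF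
  have hbot : F ⊓ H = ⊥ := by rw [hF, inf_assoc, M.disjoint, inf_bot_eq]
  have hH' : Nat.card H = n.factorial := M.card_closure
  have hsup : F ⊔ H = N := Loc.sup_eq_of_card inf_le_left (hHC.trans hCN) hbot
    (by rw [hH', mul_comm]; exact hbound)
  have hcard : Nat.card F = f := by
    have h1 := Loc.card_mul_le_sup hbot
    rw [hsup, hN, hH', mul_comm] at h1
    have h2 := hN ▸ hbound
    exact le_antisymm (Nat.le_of_mul_le_mul_left h1 n.factorial_pos) (Nat.le_of_mul_le_mul_left h2 n.factorial_pos)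
  refine ⟨F, hcard, le_inf (hXC.trans hCN) hXT, ?_, hbot,
    fun x hx z hz => commute_closure (Subgroup.mem_inf.1 hx).2 hz, hsup, M.iso⟩
  refine (Subgroup.eq_of_le_of_card_ge (le_inf (le_inf (hXC.trans hCN) hXT) hXC) ?_).symm
  have h1 := Loc.card_mul_le_sup (A := F ⊓ C) (B := H) (by rw [inf_right_comm, hbot, bot_inf_eq])
  have h2 := (Nat.le_of_dvd Nat.card_pos (Subgroup.card_dvd_of_le (sup_le inf_le_right hHC : F ⊓ C ⊔ H ≤ C))).trans hC
  rw [hH'] at h1
  rw [hp]
  exact Nat.le_of_mul_le_mul_right ((h1.trans h2).trans_eq (mul_comm _ _)) n.factorial_pos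

end CfsgLib.M23Sylow
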