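import Mathlib

/-!
# Coset enumeration for the relations of the symmetric group of degree seven
-/

set_option autoImplicit false

namespace CfsgLib.M23Sylow

open Subgroup

section Words

variable {M : Type*} [Group M] (s : ℕ → M) (n : ℕ)

/-- The relations of type `A_n` among the first `n` values of a sequence. -/
structure BraidRel : Prop where
  sq : ∀ i < n, s i * s i = 1
  braid : ∀ i, i + 1 < n → s i * s (i + 1) * s i = s (i + 1) * s i * s (i + 1)
  comm : ∀ i j, i + 2 ≤ j → j < n → Commute (s i) (s j)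

/-- The descending word of length `r` starting at `m`. -/
def word (m : ℕ) : ℕ → M
  | 0 => 1
  | r + 1 => word m r * s (m - r)

/-- The subgroup generated by the first `m` values. -/
def gens (m : ℕ) : Subgroup M := closure (s '' Set.Iio m)

variable {s n} (h : BraidRel s n)
include h

theorem word_comm_low {m r i : ℕ} (hm : m < n) (hi : i + r + 1 ≤ m) :
    Commute (s i) (word s m r) := by
  induction r with
  | zero => exact Commute.one_right _
  | succ r ih => exact (ih (by omega)).mul_right (h.comm i (m - r) (by omega) (by omega))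

theorem word_mul_gen {m r i : ℕ} (hm : m < n) (hi : i ≤ m) (hr : r ≤ m + 1) :
    ∃ k ∈ gens s m, ∃ r', r' ≤ m + 1 ∧ word s m r * s i = k * word s m r' := by
  rcases lt_trichotomy r (m - i) with h1 | h1 | h1
  · refine ⟨s i, subset_closure ⟨i, show i < m by omega, rfl⟩, r, hr, ?_⟩
    exact (word_comm_low h hm (by omega)).symm.eq
  · refine ⟨1, one_mem _, r + 1, by omega, ?_⟩
    rw [one_mul, word, show m - r = i by omega]
  · by_cases h2 : r = m - i + 1
    · refine ⟨1, one_mem _, m - i, by omega, ?_⟩
      rw [one_mul, h2, word, show m - (m - i) = i by omega, mul_assoc, h.sq i (by omega), mul_one]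
    · refine ⟨s (i - 1), subset_closure ⟨i - 1, show i - 1 < m by omega, rfl⟩, r, hr, ?_⟩
      have key : ∀ t, m - i + 2 + t ≤ m + 1 →
          word s m (m - i + 2 + t) * s i = s (i - 1) * word s m (m - i + 2 + t) := by
        intro t
        induction t with
        | zero =>
          intro ht
          have hb := h.braid (i - 1) (by omega)
          rw [show i - 1 + 1 = i by omega] at hb
          simp only [Nat.add_zero, word, show m - (m - i) = i by omega, show m - (m - i + 1) = i - 1 by omega]
          rw [mul_assoc, mul_assoc, ← mul_assoc (s i) (s (i - 1)) (s i), ← hb, ← mul_assoc, ← mul_assoc,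
            ← (word_comm_low h hm (show i - 1 + (m - i) + 1 ≤ m by omega)).eq]
          simp only [mul_assoc]
        | succ t ih =>
          intro ht
          rw [show m - i + 2 + (t + 1) = (m - i + 2 + t) + 1 by omega, word, mul_assoc,
            (h.comm (m - (m - i + 2 + t)) i (by omega) (by omega)).eq, ← mul_assoc, ih (by omega), mul_assoc]
      have := key (r - (m - i + 2)) (by omega)
      rwa [show m - i + 2 + (r - (m - i + 2)) = r by omega] at this

theorem gens_card {m : ℕ} (hm : m ≤ n) :
    (gens s m : Set M).Finite ∧ (gens s m : Set M).ncard ≤ (m + 1).factorial := by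
  induction m with
  | zero =>
    have : gens s 0 = ⊥ := closure_eq_bot_iff.2 fun x ⟨i, hi, _⟩ => absurd hi (Nat.not_lt_zero i)
    rw [this]
    exact ⟨by simp, by simp⟩
  | succ m ih =>
    obtain ⟨hfin, hcard⟩ := ih (by omega)
    haveI : Finite (gens s m) := hfin.to_subtype
    set V : Set M := Set.range fun p : gens s m × Fin (m + 2) => (p.1 : M) * word s m p.2 with hV
    have hstep : ∀ v ∈ V, ∀ i, i ≤ m → v * s i ∈ V := by
      rintro v ⟨⟨k, r⟩, rfl⟩ i hi
      obtain ⟨k', hk', r', hr', e⟩ := word_mul_gen h (show m < n by omega) hi (show (r : ℕ) ≤ m + 1 by omega)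
      refine ⟨(⟨(k : M) * k', mul_mem k.2 hk'⟩, ⟨r', by omega⟩), ?_⟩
      show (k : M) * k' * word s m r' = (k : M) * word s m r * s i
      rw [mul_assoc, ← e, ← mul_assoc]
    have hsub : (gens s (m + 1) : Set M) ⊆ V := by
      intro v hv
      induction hv using Subgroup.closure_induction_right with
      | one => exact ⟨(1, 0), by simp [word]⟩
      | mul_right v hv u hu ih =>
        obtain ⟨i, hi, rfl⟩ := hu
        exact hstep _ ih i (Nat.lt_succ_iff.1 hi)
      | mul_inv_cancel v hv u hu ih =>
        obtain ⟨i, hi, rfl⟩ := hu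
        rw [Set.mem_Iio] at hi
        rw [inv_eq_of_mul_eq_one_right (h.sq i (by omega))]
        exact hstep _ ih i (Nat.lt_succ_iff.1 hi)
    refine ⟨(Set.finite_range _).subset hsub, ?_⟩
    calc (gens s (m + 1) : Set M).ncard ≤ V.ncard := Set.ncard_le_ncard hsub (Set.finite_range _)
      _ ≤ Nat.card (gens s m × Fin (m + 2)) := by
          rw [hV, ← Set.image_univ]
          exact (Set.ncard_image_le Set.finite_univ).trans (by rw [Set.ncard_univ])
      _ = (gens s m : Set M).ncard * (m + 2) := by
          rw [Nat.card_prod, Nat.card_fin, ← Nat.card_coe_set_eq]; rfl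
      _ ≤ (m + 1).factorial * (m + 2) := Nat.mul_le_mul_right _ hcard
      _ = (m + 2).factorial := by rw [Nat.factorial_succ (m + 1), mul_comm]

end Words

/-- The adjacent transpositions of degree seven. -/
def adjSwap (i : Fin 6) : Equiv.Perm (Fin 7) := Equiv.swap i.castSucc i.succ

theorem adjSwap_rel : ∀ i j : Fin 6, adjSwap i * adjSwap i = 1 ∧
    ((i : ℕ) + 1 = j → adjSwap i * adjSwap j * adjSwap i = adjSwap j * adjSwap i * adjSwap j) ∧
    ((i : ℕ) + 2 ≤ j → adjSwap i * adjSwap j = adjSwap j * adjSwap i) := by decide +kernel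

/-- The Coxeter relations of type `A₆` give a homomorphism from the symmetric group of degree seven. -/
theorem exists_hom_symm7 {G : Type*} [Group G] (f : Fin 6 → G) (hsq : ∀ i, f i * f i = 1)
    (hbr : ∀ i j : Fin 6, (i : ℕ) + 1 = j → f i * f j * f i = f j * f i * f j)
    (hco : ∀ i j : Fin 6, (i : ℕ) + 2 ≤ j → Commute (f i) (f j)) :
    ∃ φ : Equiv.Perm (Fin 7) →* G, ∀ i, φ (adjSwap i) = f i := by
  let s : ℕ → G × Equiv.Perm (Fin 7) := fun i => if hi : i < 6 then (f ⟨i, hi⟩, adjSwap ⟨i, hi⟩) else 1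
  have hrel : BraidRel s 6 := by
    refine ⟨fun i hi => ?_, fun i hi => ?_, fun i j hij hj => ?_⟩
    · simp only [s, dif_pos hi]
      exact Prod.ext (hsq _) (adjSwap_rel ⟨i, hi⟩ ⟨i, hi⟩).1
    · simp only [s, dif_pos (show i < 6 by omega), dif_pos hi]
      exact Prod.ext (hbr ⟨i, by omega⟩ ⟨i + 1, hi⟩ rfl) ((adjSwap_rel ⟨i, by omega⟩ ⟨i + 1, hi⟩).2.1 rfl)
    · simp only [s, dif_pos (show i < 6 by omega), dif_pos hj]
      exact Prod.ext (hco ⟨i, by omega⟩ ⟨j, hj⟩ hij).eq ((adjSwap_rel ⟨i, by omega⟩ ⟨j, hj⟩).2.2 hij)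
  obtain ⟨hfin, hcard⟩ := gens_card hrel le_rfl
  have hmem : ∀ i : Fin 6, (f i, adjSwap i) ∈ gens s 6 := fun i =>
    subset_closure ⟨i, i.2, by simp only [s, dif_pos i.2, Fin.eta]⟩
  let π : gens s 6 →* Equiv.Perm (Fin 7) := (MonoidHom.snd G _).comp (gens s 6).subtype
  have hsurj : Function.Surjective π := by
    rw [← MonoidHom.range_eq_top, eq_top_iff]
    intro σ _
    have hσ : σ ∈ Submonoid.closure (Set.range fun i : Fin 6 ↦ Equiv.swap i.castSucc i.succ) := by
      rw [Equiv.Perm.mclosure_swap_castSucc_succ]; trivial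
    refine (Submonoid.closure_le (S := π.range.toSubmonoid)).mpr ?_ hσ
    rintro _ ⟨i, rfl⟩
    exact ⟨⟨_, hmem i⟩, rfl⟩
  haveI : Finite (gens s 6) := hfin.to_subtype
  have hcardΓ : Nat.card (gens s 6) = Nat.card (Equiv.Perm (Fin 7)) := by
    refine le_antisymm ?_ (Nat.card_le_card_of_surjective π hsurj)
    rw [Nat.card_perm, Nat.card_fin]
    exact (Nat.card_coe_set_eq _).trans_le hcard
  let E : gens s 6 ≃* Equiv.Perm (Fin 7) :=
    MulEquiv.ofBijective π ((Nat.bijective_iff_surjective_and_card π).mpr ⟨hsurj, hcardΓ⟩)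
  refine ⟨((MonoidHom.fst G _).comp (gens s 6).subtype).comp E.symm.toMonoidHom, fun i => ?_⟩
  have h : E.symm (adjSwap i) = ⟨_, hmem i⟩ := by rw [MulEquiv.symm_apply_eq]; rfl
  exact congrArg (fun t : gens s 6 => (t : G × Equiv.Perm (Fin 7)).1) h

end CfsgLib.M23Sylow
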