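import Cfsg.Agent.Lib.ThreeTransp.M23Sylow.Local
import Cfsg.Agent.Lib.ThreeTransp.M23Sylow.SymModel
import Cfsg.Agent.Lib.ThreeTransp.M22Sylow.Thirteen.Main

/-!
# Groups of type `M(23)`: subgroups of order thirteen

The fixed members are pairwise non-commuting, and the normaliser fixing one of them is transitive on the
others, so there are three of them.
-/

set_option autoImplicit false

namespace CfsgLib.M23Sylow

open Equiv (swap)
open CfsgLib.ThreeTransp CfsgLib.M23 CfsgLib.M22Sylow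
open CfsgLib.ThreeTransp.Factor

/-- The involutions of the symmetric group of degree three. -/
theorem perm3_invol : ∀ σ : Equiv.Perm (Fin 3), σ * σ = 1 → σ ≠ 1 →
    σ = swap 0 1 ∨ σ = swap 0 2 ∨ σ = swap 1 2 := by
  decide +kernel

/-- A braided triple carries the transpositions of a symmetric group of degree three. -/
theorem exists_symModel_three {G : Type*} [Group G] [Finite G] {a b : G} {T : Set G} (ha : a * a = 1)
    (hb : b * b = 1) (hab : a * b * a = b * a * b) (hnc : ¬ Commute a b) (hT : T = {a, b, a * b * a})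
    (h3 : T.ncard = 3) (hinv : ∀ g ∈ Subgroup.closure T, ∀ x ∈ T, g * x * g⁻¹ ∈ T) :
    ∃ φ : Equiv.Perm (Fin 3) →* G, SymModel 3 T φ := by
  obtain ⟨-, -, ⟨e⟩⟩ := closure_three ha hb hab hnc hT h3 hinv
  refine ⟨(Subgroup.closure T).subtype.comp e.symm.toMonoidHom, le_rfl,
    (Subgroup.subtype_injective _).comp e.symm.injective, ?_⟩
  have hsq : ∀ x ∈ T, x * x = 1 ∧ x ≠ 1 := by
    have ha1 : a ≠ 1 := fun h => hnc (h ▸ Commute.one_left b)
    have hb1 : b ≠ 1 := fun h => hnc (h ▸ Commute.one_right a)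
    rw [hT]
    rintro x (rfl | rfl | rfl)
    · exact ⟨ha, ha1⟩
    · exact ⟨hb, hb1⟩
    · refine ⟨?_, fun h => hb1 ?_⟩
      · simp [mul_assoc, cancel₂ ha, cancel₂ hb, ha]
      · have := congrArg (fun v => a * v * a) h
        simpa [mul_assoc, cancel₂ ha, ha] using this
  refine Set.eq_of_subset_of_ncard_le (fun x hx => ?_) ?_ (Set.toFinite _)
  · have hx' : x ∈ Subgroup.closure T := Subgroup.subset_closure hx
    refine ⟨e ⟨x, hx'⟩, ?_, congrArg Subtype.val (e.symm_apply_apply ⟨x, hx'⟩)⟩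
    have h2 : e ⟨x, hx'⟩ * e ⟨x, hx'⟩ = 1 := by
      rw [← map_mul, show (⟨x, hx'⟩ : ↥(Subgroup.closure T)) * ⟨x, hx'⟩ = 1 from Subtype.ext (hsq x hx).1, map_one]
    have h1 : e ⟨x, hx'⟩ ≠ 1 := fun h => (hsq x hx).2 (congrArg Subtype.val (e.map_eq_one_iff.1 h))
    rcases perm3_invol _ h2 h1 with h | h | h <;> rw [h] <;> exact ⟨_, _, by decide, rfl⟩
  · rw [h3]
    refine le_trans (Set.ncard_image_le (Set.toFinite _)) (le_trans (Set.ncard_le_ncard
      (t := {swap (0 : Fin 3) 1, swap 0 2, swap 1 2}) ?_ (Set.toFinite _)) ?_)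
    · rintro σ ⟨i, j, hij, rfl⟩
      rcases perm3_invol (swap i j) (Equiv.swap_mul_self i j)
        (fun h => hij (Equiv.swap_eq_one_iff.1 h)) with h | h | h <;> simp [h]
    · exact (Set.ncard_insert_le _ _).trans (Nat.succ_le_succ ((Set.ncard_insert_le _ _).trans (by simp)))

variable {G : Type*} [Group G] [Finite G] {D : Set G} (S : Setup D)
include S

omit [Finite G] S in
theorem thirteen_elt {d y : G} (hy : y ^ 13 = 1) (hy1 : y ≠ 1) (hd : d ∈ fixSet D y) : Elt D 13 d y :=
  ⟨by norm_num, by norm_num, hd.1, hd.2.symm, hy, hy1⟩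

/-- The normaliser and the centraliser fixing a member. -/
theorem thirteen_cards {d y : G} (hy : y ^ 13 = 1) (hy1 : y ≠ 1) (hd : d ∈ fixSet D y) :
    Nat.card ↥(Subgroup.normalizer ((Subgroup.zpowers y : Subgroup G) : Set G) ⊓
        Subgroup.centralizer ({d} : Set G)) = 156 ∧
      Nat.card ↥(Subgroup.centralizer ((Subgroup.zpowers y : Subgroup G) : Set G) ⊓
        Subgroup.centralizer ({d} : Set G)) = 26 := by
  have E := thirteen_elt hy hy1 hd
  have T := S.link_setup hd.1
  obtain ⟨F, _, _, hF, hM⟩ := T.exists_models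
  obtain ⟨hN, hC⟩ := thirteen_normalizer T hF hM (card_zpowers_img S E)
  rw [centralizer_zpowers] at hC
  rw [card_normalizer_fix S E, card_centralizer_fix S E, hN, hC, card_zpowers_img S E]
  exact ⟨rfl, rfl⟩

theorem thirteen_pair {y d e : G} (hy : y ^ 13 = 1) (hy1 : y ≠ 1) (hd : d ∈ fixSet D y) (he : e ∈ fixSet D y)
    (hne : d ≠ e) : ¬ Commute d e := fun hc => by
  have E := thirteen_elt hy hy1 hd
  have T := S.link_setup hd.1
  obtain ⟨F, _, _, hF, hM⟩ := T.exists_models
  have le : e ∈ link D d := ⟨he.1, hne.symm, hc⟩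
  exact thirteen_moves T hF hM (img_pow S E) (img_ne S E) (pj_mem le) ((commute_img S E le).1 he.2)

theorem thirteen_fixSet {y : G} (hy : y ^ 13 = 1) (hy1 : y ≠ 1) :
    (fixSet D y).ncard = 3 ∧ ∃ a b, a ∈ fixSet D y ∧ b ∈ fixSet D y ∧ a ≠ b ∧
      fixSet D y = {a, b, a * b * a} := by
  have hpr : (13 : ℕ).Prime := by norm_num
  have hmod := fixSet_modEq S hpr hy
  obtain ⟨d, hd⟩ : (fixSet D y).Nonempty := by
    rw [Set.nonempty_iff_ne_empty]
    intro e
    rw [e, Set.ncard_empty] at hmod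
    norm_num [Nat.ModEq] at hmod
  set T := fixSet D y with hT
  set X := Subgroup.zpowers y with hXdef
  have hyN : ∀ u ∈ T, u ∈ Subgroup.normalizer (X : Set G) := fun u hu =>
    Subgroup.centralizer_le_normalizer _ (Loc.mem_centralizer_zpowers.2 hu.2)
  have hcl : ∀ u ∈ T, ∀ v ∈ T, u * v * u ∈ T := fun u hu v hv => by
    have := fixSet_conj S (hyN u hu) hv
    rwa [S.tt.inv_eq hu.1] at this
  have hpair : ∀ u ∈ T, ∀ v ∈ T, u ≠ v → ¬ Commute u v := fun u hu v hv =>
    thirteen_pair S hy hy1 hu hv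
  obtain ⟨k, hk⟩ := w1_ncard_three_pow (S.tt.mono_w1 (fun u hu => hu.1) hpair hcl) ⟨d, hd⟩
  have h3 : T.ncard = 3 := by
    have hdiff := Set.ncard_diff_singleton_add_one hd (Set.toFinite T)
    rcases (T \ {d}).eq_empty_or_nonempty with h | ⟨e, he⟩
    · rw [h, Set.ncard_empty] at hdiff
      rw [← hdiff] at hmod
      norm_num [Nat.ModEq] at hmod
    set K := Subgroup.centralizer ({d} : Set G) ⊓ Subgroup.normalizer (X : Set G) with hK
    have hX13 : Nat.card X = 13 := by
      haveI := Fact.mk hpr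
      rw [hXdef, Nat.card_zpowers, orderOf_eq_prime hy hy1]
    have hKorb : Nat.card K = (T \ {d}).ncard * Nat.card ↥(K ⊓ Subgroup.centralizer ({e} : Set G)) := by
      refine Loc.card_eq_mul K e _ ?_ ?_
      · intro g hg
        refine ⟨fixSet_conj S (Subgroup.mem_inf.1 hg).2 he.1, fun h => he.2 ?_⟩
        rw [Set.mem_singleton_iff] at h ⊢
        have h' : g * d * g⁻¹ = d :=
          mul_inv_eq_iff_eq_mul.2 (Subgroup.mem_centralizer_singleton_iff.1 (Subgroup.mem_inf.1 hg).1)
        exact mul_left_cancel (mul_right_cancel (h.trans h'.symm))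
      · intro e' he'
        obtain ⟨h, hhd, hhe⟩ := trans_nonlink S hd.1 he.1.1 he'.1.1
          (hpair d hd e he.1 (Ne.symm he.2)) (hpair d hd e' he'.1 (Ne.symm he'.2))
        set M := Subgroup.centralizer ({d} : Set G) ⊓ Subgroup.centralizer ({e'} : Set G) with hMdef
        have hXM : X ≤ M := Subgroup.zpowers_le.2 (Subgroup.mem_inf.2
          ⟨Subgroup.mem_centralizer_singleton_iff.2 hd.2.eq, Subgroup.mem_centralizer_singleton_iff.2 he'.1.2.eq⟩)
        have hXM' : X.map (MulAut.conj h).toMonoidHom ≤ M := by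
          rw [hXdef, MonoidHom.map_zpowers, Subgroup.zpowers_le]
          refine Subgroup.mem_inf.2 ⟨Subgroup.mem_centralizer_singleton_iff.2 ?_,
            Subgroup.mem_centralizer_singleton_iff.2 ?_⟩
          · show h * y * h⁻¹ * d = d * (h * y * h⁻¹)
            exact ((hhd.mul_left hd.2).mul_left hhd.inv_left).eq
          · show h * y * h⁻¹ * e' = e' * (h * y * h⁻¹)
            rw [← hhe]
            exact ((Commute.conj_iff h).2 he.1.2).eq
        obtain ⟨g, hg, hgX⟩ := Loc.conj_of_card hpr hXM' hXM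
          (by rw [Subgroup.card_map_of_injective (MulAut.conj h).injective, hX13]) hX13 (fun h169 => by
            have := h169.trans (Subgroup.card_subgroup_dvd_card M)
            rw [card_eq S] at this
            norm_num at this)
        rw [Subgroup.map_map] at hgX
        have hgd : Commute g d := Subgroup.mem_centralizer_singleton_iff.1 (Subgroup.mem_inf.1 hg).1
        have hge : Commute g e' := Subgroup.mem_centralizer_singleton_iff.1 (Subgroup.mem_inf.1 hg).2
        refine ⟨g * h, Subgroup.mem_inf.2 ⟨Subgroup.mem_centralizer_singleton_iff.2 (hgd.mul_left hhd).eq,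
          Loc.mem_normalizer_of_map ?_⟩, ?_⟩
        · rw [map_mul]
          exact hgX
        · calc g * h * e * (g * h)⁻¹ = g * (h * e * h⁻¹) * g⁻¹ := by group
            _ = e' := by rw [hhe, hge.eq, mul_inv_cancel_right]
    have h156 : Nat.card K = 156 := by rw [hK, inf_comm]; exact (thirteen_cards S hy hy1 hd).1
    rw [h156] at hKorb
    have hdvd : (T \ {d}).ncard ∣ 156 := ⟨_, hKorb⟩
    rw [hk] at hmod hdiff ⊢
    have hk4 : k ≤ 4 := by
      by_contra hk4
      have := Nat.pow_le_pow_right (show 0 < 3 by norm_num) (show 5 ≤ k by omega)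
      have := Nat.le_of_dvd (by norm_num) hdvd
      omega
    generalize (T \ {d}).ncard = r at *
    interval_cases k <;> first
      | rfl
      | (norm_num [Nat.ModEq] at hmod; done)
      | (obtain rfl : r = 80 := by omega
         norm_num at hdvd)
  obtain ⟨b, hb⟩ : ∃ b, b ∈ T \ {d} := by
    apply Set.nonempty_of_ncard_ne_zero
    rw [Set.ncard_diff_singleton_of_mem hd, h3]; norm_num
  have hne : d ≠ b := Ne.symm hb.2
  have hnc := hpair d hd b hb.1 hne
  refine ⟨h3, d, b, hd, hb.1, hne, (Set.eq_of_subset_of_ncard_le ?_ ?_ (Set.toFinite _)).symm⟩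
  · rintro x (rfl | rfl | rfl)
    exacts [hd, hb.1, hcl d hd b hb.1]
  · rw [h3, Set.ncard_eq_three.2 ⟨d, b, d * b * d, hne, fun h => ?_, fun h => ?_, rfl⟩]
    · exact hne (by
        calc d = d * (d * b * d) * d := by rw [← h, S.sqd hd.1, one_mul]
          _ = b := by simp [mul_assoc, cancel₂ (S.sqd hd.1), S.sqd hd.1])
    · exact S.tt.not_commute_cj_right hd.1 hb.1.1 hnc (h ▸ Commute.refl b)

/-- Subgroups of order thirteen are conjugate. -/
theorem thirteen_conj23 {X Y : Subgroup G} (hX : Nat.card X = 13) (hY : Nat.card Y = 13) :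
    ∃ g : G, X.map (MulAut.conj g).toMonoidHom = Y := by
  obtain ⟨g, -, hg⟩ := Loc.conj_of_card (by norm_num : (13 : ℕ).Prime) (le_top (a := X)) (le_top (a := Y)) hX hY
    (by rw [Subgroup.card_top, card_eq S]; norm_num)
  exact ⟨g, hg⟩

/-- The normaliser of a subgroup of order thirteen. -/
theorem thirteen_normalizer23 {X : Subgroup G} (hX : Nat.card X = 13) :
    ∃ F : Subgroup G, Nat.card ↥F = 78 ∧ X ≤ F ∧ F ⊓ Subgroup.centralizer ((X : Subgroup G) : Set G) = X ∧
      F ⊓ Subgroup.closure (D ∩ (Subgroup.centralizer ((X : Subgroup G) : Set G) : Set G)) = ⊥ ∧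
      (∀ x ∈ F, ∀ y ∈ Subgroup.closure (D ∩ (Subgroup.centralizer ((X : Subgroup G) : Set G) : Set G)),
        x * y = y * x) ∧
      F ⊔ Subgroup.closure (D ∩ (Subgroup.centralizer ((X : Subgroup G) : Set G) : Set G)) =
        Subgroup.normalizer ((X : Subgroup G) : Set G) ∧
      Nonempty (↥(Subgroup.closure (D ∩ (Subgroup.centralizer ((X : Subgroup G) : Set G) : Set G))) ≃*
        Equiv.Perm (Fin 3)) := by
  obtain ⟨y, rfl, hy, hy1⟩ := Loc.exists_gen (by norm_num : (13 : ℕ).Prime) hX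
  rw [inter_centralizer]
  obtain ⟨h3, a, b, ha, hb, hne, hT⟩ := thirteen_fixSet S hy hy1
  have hnc := thirteen_pair S hy hy1 ha hb hne
  set X := Subgroup.zpowers y with hXdef
  set T := fixSet D y with hTdef
  set N := Subgroup.normalizer (X : Set G) with hN
  set C := Subgroup.centralizer (X : Set G) with hC
  have hCN : C ≤ N := Subgroup.centralizer_le_normalizer _
  have hle : T ⊆ (C : Set G) := fun u hu => Loc.mem_centralizer_zpowers.2 hu.2
  have hHC : Subgroup.closure T ≤ C := (Subgroup.closure_le C).2 hle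
  have hconj : ∀ g ∈ N, ∀ t ∈ T, g * t * g⁻¹ ∈ T := fun g hg t ht => fixSet_conj S hg ht
  obtain ⟨φ, M⟩ := exists_symModel_three (S.sqd ha.1) (S.sqd hb.1) (S.tt.braid ha.1 hb.1 hnc) hnc hT h3
    fun g hg x hx => hconj g (hCN (hHC hg)) x hx
  have hTF : ∀ g, Commute g a → Commute g b → g ∈ Subgroup.centralizer (T : Set G) := fun g h1 h2 => by
    rw [Subgroup.mem_centralizer_iff, hT]
    rintro x (rfl | rfl | rfl)
    exacts [h1.symm.eq, h2.symm.eq, ((h1.mul_right h2).mul_right h1).symm.eq]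
  obtain ⟨hNa, hCa⟩ := thirteen_cards S hy hy1 ha
  have hNd := Loc.card_eq_mul N a T (fun g hg => hconj g hg a ha) fun x hx =>
    let ⟨g, hg, h⟩ := M.transitive ha hx; ⟨g, hCN (hHC hg), h⟩
  have hCd := Loc.card_eq_mul C a T (fun g hg => hconj g (hCN hg) a ha) fun x hx =>
    let ⟨g, hg, h⟩ := M.transitive ha hx; ⟨g, hHC hg, h⟩
  rw [← hN] at hNa
  rw [← hC] at hCa
  rw [h3, hNa] at hNd
  rw [h3, hCa] at hCd
  refine M.local_structure (f := 78) (p := 13) hconj hle hX
    (Subgroup.zpowers_le.2 (Subgroup.mem_centralizer_iff.2 fun u hu => hu.2.symm.eq))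
    (Subgroup.zpowers_le.2 (Loc.mem_centralizer_zpowers.2 (Commute.refl y))) ?_ (by rw [hNd]; rfl)
    (by rw [hCd, show Nat.factorial 3 = 6 from rfl])
  rw [show Nat.factorial 3 = 6 from rfl, ← hN]
  have h1 := Loc.card_le_mul N a T fun g hg => hconj g hg a ha
  have h2 := Loc.card_le_mul (N ⊓ Subgroup.centralizer ({a} : Set G)) b (T \ {a}) fun g hg => by
    refine ⟨hconj g (Subgroup.mem_inf.1 hg).1 b hb, fun h => hne ?_⟩
    rw [Set.mem_singleton_iff] at h
    have h' : g * a * g⁻¹ = a :=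
      mul_inv_eq_iff_eq_mul.2 (Subgroup.mem_centralizer_singleton_iff.1 (Subgroup.mem_inf.1 hg).2)
    exact (mul_left_cancel (mul_right_cancel (h.trans h'.symm))).symm
  rw [Set.ncard_diff_singleton_of_mem ha, h3] at h2
  rw [h3] at h1
  have h4 : Nat.card ↥(N ⊓ Subgroup.centralizer ({a} : Set G) ⊓ Subgroup.centralizer ({b} : Set G)) ≤
      Nat.card ↥(N ⊓ Subgroup.centralizer T) := by
    refine Nat.le_of_dvd Nat.card_pos (Subgroup.card_dvd_of_le fun g hg => ?_)
    obtain ⟨hg1, hg2⟩ := Subgroup.mem_inf.1 hg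
    obtain ⟨hg0, hg1⟩ := Subgroup.mem_inf.1 hg1
    exact Subgroup.mem_inf.2 ⟨hg0, hTF g (Subgroup.mem_centralizer_singleton_iff.1 hg1)
      (Subgroup.mem_centralizer_singleton_iff.1 hg2)⟩
  omega

end CfsgLib.M23Sylow
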